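import Groth.Agent.RelFrobEt.Flat
import Mathlib.RingTheory.Spectrum.Prime.FreeLocus

/-! The rank of the relative Frobenius of a smooth algebra. -/

set_option autoImplicit false
set_option backward.isDefEq.respectTransparency false

universe u

open FrobAlg TensorProduct Groth.Agent.RelFrobEt

noncomputable section

namespace Groth.Agent.FrobRank

variable {p : ℕ} [Fact p.Prime] {A : Type u} [CommRing A] [CharP A p]

lemma exists_relFrob_mvPolynomial_eq (n : ℕ) [CharP (MvPolynomial (Fin n) A) p] :
    ∃ θ : BaseChange p A (MvPolynomial (Fin n) A) →+* MvPolynomial (Fin n) A, Function.Bijective θ ∧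
      relFrob p A (MvPolynomial (Fin n) A) = (MvPolynomial.expand p : MvPolynomial (Fin n) A →ₐ[A] MvPolynomial (Fin n) A).toRingHom.comp θ := by
  let P := MvPolynomial (Fin n) A
  letI algT : Algebra A (Target p A P) :=
    ((RingHom.id P).comp ((MvPolynomial.C : A →+* P).comp (frobenius A p))).toAlgebra' (fun _ _ => mul_comm _ _)
  let f₁ : P →ₐ[A] Target p A P :=
    { MvPolynomial.map (frobenius A p) with commutes' := fun a => MvPolynomial.map_C _ a }
  let f₂ : Twist p A →ₐ[A] Target p A P :=
    { (MvPolynomial.C : A →+* P).comp ((toTwist p A).symm : Twist p A →+* A) with commutes' := fun _ => rfl }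
  let θ : BaseChange p A P →+* P := (Algebra.TensorProduct.lift f₁ f₂ fun _ _ => Commute.all _ _).toRingHom
  have hθ : ∀ f a, θ (f ⊗ₜ a) = MvPolynomial.map (frobenius A p) f * MvPolynomial.C ((toTwist p A).symm a) :=
    fun f a => Algebra.TensorProduct.lift_tmul f₁ f₂ _ _ _
  let θ' : P →+* BaseChange p A P := MvPolynomial.eval₂Hom
    ((Algebra.TensorProduct.includeRight : Twist p A →ₐ[A] BaseChange p A P).toRingHom.comp (toTwist p A).toRingHom)
    fun i => (MvPolynomial.X i : P) ⊗ₜ 1
  have h1 : θ.comp θ' = RingHom.id P := by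
    refine MvPolynomial.ringHom_ext (fun a => ?_) fun i => ?_
    · show θ (θ' (MvPolynomial.C a)) = _
      rw [MvPolynomial.eval₂Hom_C]
      show θ ((1 : P) ⊗ₜ toTwist p A a) = _
      rw [hθ, map_one, one_mul, RingEquiv.symm_apply_apply]
      rfl
    · show θ (θ' (MvPolynomial.X i)) = _
      rw [MvPolynomial.eval₂Hom_X', hθ, MvPolynomial.map_X, map_one, map_one, mul_one]
      rfl
  have hsurj : Function.Surjective θ' := by
    intro t
    induction t using TensorProduct.induction_on with
    | zero => exact ⟨0, map_zero _⟩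
    | tmul f a =>
      refine ⟨MvPolynomial.map (frobenius A p) f * MvPolynomial.C ((toTwist p A).symm a), ?_⟩
      have hf : θ' (MvPolynomial.map (frobenius A p) f) = f ⊗ₜ (1 : Twist p A) := by
        induction f using MvPolynomial.induction_on with
        | C c =>
          rw [MvPolynomial.map_C, MvPolynomial.eval₂Hom_C]
          show (1 : P) ⊗ₜ toTwist p A (c ^ p) = _
          rw [← algebraMap_twist, Algebra.algebraMap_eq_smul_one, ← TensorProduct.smul_tmul,
            ← Algebra.algebraMap_eq_smul_one]
          rfl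
        | add a b ha hb => rw [map_add, map_add, ha, hb, TensorProduct.add_tmul]
        | mul_X a i ha =>
          rw [map_mul, map_mul, ha, MvPolynomial.map_X, MvPolynomial.eval₂Hom_X', Algebra.TensorProduct.tmul_mul_tmul,
            mul_one]
      rw [map_mul, hf, MvPolynomial.eval₂Hom_C]
      show f ⊗ₜ (1 : Twist p A) * ((1 : P) ⊗ₜ toTwist p A _) = _
      rw [Algebra.TensorProduct.tmul_mul_tmul, mul_one, one_mul, RingEquiv.apply_symm_apply]
    | add x y hx hy =>
      obtain ⟨a, rfl⟩ := hx
      obtain ⟨b, rfl⟩ := hy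
      exact ⟨a + b, map_add _ _ _⟩
  have hb : Function.Bijective θ := by
    refine ⟨fun x y h => ?_, fun z => ⟨θ' z, RingHom.congr_fun h1 z⟩⟩
    obtain ⟨a, rfl⟩ := hsurj x
    obtain ⟨b, rfl⟩ := hsurj y
    rw [← RingHom.comp_apply, ← RingHom.comp_apply θ, h1] at h
    exact congrArg θ' h
  haveI : NeZero p := ⟨(Fact.out : p.Prime).ne_zero⟩
  have heq : relFrob p A P = (MvPolynomial.expand p : P →ₐ[A] P).toRingHom.comp θ := by
    refine RingHom.ext fun t => ?_
    induction t using TensorProduct.induction_on with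
    | zero => simp
    | tmul f a =>
      rw [RingHom.comp_apply, hθ, relFrob_tmul, map_mul]
      congr 1
      · show _ = MvPolynomial.expand p (MvPolynomial.map (frobenius A p) f)
        rw [← MvPolynomial.map_expand, MvPolynomial.map_frobenius_expand]
      · exact (MvPolynomial.expand_C p _).symm
    | add x y hx hy => rw [map_add, map_add, hx, hy]
  exact ⟨θ, hb, heq⟩


variable (p A) in
/-- The map of Frobenius twists induced by an algebra map. -/
def bcMap (P C : Type u) [CommRing P] [CommRing C] [Algebra A P] [Algebra A C] [Algebra P C] [IsScalarTower A P C] :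
    BaseChange p A P →+* BaseChange p A C :=
  (Algebra.TensorProduct.map (IsScalarTower.toAlgHom A P C) (AlgHom.id A (Twist p A))).toRingHom

lemma rankAtStalk_relFrob_etale (P C : Type u) [CommRing P] [CommRing C] [Algebra A P] [Algebra A C] [CharP P p]
    [CharP C p] [Algebra P C] [IsScalarTower A P C] [Algebra.Etale P C]
    (hfl : (relFrob p A P).Flat) (hfin : (relFrob p A P).Finite) (q : PrimeSpectrum (BaseChange p A C)) :
    @Module.rankAtStalk (BaseChange p A C) C _ _ (relFrob p A C).toAlgebra.toModule q =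
      @Module.rankAtStalk (BaseChange p A P) P _ _ (relFrob p A P).toAlgebra.toModule (q.comap (bcMap p A P C)) := by
  letI := (relFrob p A P).toAlgebra
  letI := (relFrob p A C).toAlgebra
  letI := (bcMap p A P C).toAlgebra
  let ψ := bcMap p A P C
  have hψ : ∀ f a, ψ (f ⊗ₜ a) = algebraMap P C f ⊗ₜ a := fun _ _ => rfl
  have hcomm : ∀ t, relFrob p A C (ψ t) = algebraMap P C (relFrob p A P t) := fun t => by
    induction t using TensorProduct.induction_on with
    | zero => simp
    | tmul f a => rw [hψ, relFrob_tmul, relFrob_tmul, map_mul, map_pow, ← IsScalarTower.algebraMap_apply]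
    | add x y hx hy => simp only [map_add, hx, hy]
  letI algC : Algebra (BaseChange p A P) (Target p A C) := ((toTarget p A C : C →+* Target p A C).comp ((relFrob p A C).comp ψ)).toAlgebra
  let g₁ : BaseChange p A C →ₐ[BaseChange p A P] Target p A C :=
    { (toTarget p A C : C →+* Target p A C).comp (relFrob p A C) with commutes' := fun _ => rfl }
  let g₂ : P →ₐ[BaseChange p A P] Target p A C :=
    { (toTarget p A C : C →+* Target p A C).comp (algebraMap P C) with commutes' := fun t => (hcomm t).symm }
  let Φ : BaseChange p A C ⊗[BaseChange p A P] P →+* C :=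
    ((toTarget p A C).symm : Target p A C →+* C).comp (Algebra.TensorProduct.lift g₁ g₂ fun _ _ => Commute.all _ _).toRingHom
  have hΦ : ∀ x f, Φ (x ⊗ₜ f) = relFrob p A C x * algebraMap P C f := fun x f => by
    show (toTarget p A C).symm (Algebra.TensorProduct.lift g₁ g₂ (fun _ _ => Commute.all _ _) (x ⊗ₜ f)) = _
    rw [Algebra.TensorProduct.lift_tmul]
    rfl
  -- the map from the Frobenius twist over `P`
  let φ₁ : C →+* BaseChange p A C ⊗[BaseChange p A P] P :=
    (algebraMap (BaseChange p A C) _).comp (algebraMap C (BaseChange p A C))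
  let φ₂ : P →+* BaseChange p A C ⊗[BaseChange p A P] P :=
    (Algebra.TensorProduct.includeRight : P →ₐ[BaseChange p A P] _).toRingHom
  have hφ : ∀ q : P, φ₁ (algebraMap P C q) = φ₂ (q ^ p) := fun q => by
    show ((algebraMap P C q) ⊗ₜ (1 : Twist p A)) ⊗ₜ (1 : P) = (1 : BaseChange p A C) ⊗ₜ (q ^ p)
    rw [← hψ, show q ^ p = (q ⊗ₜ (1 : Twist p A) : BaseChange p A P) • (1 : P) from by
      show _ = relFrob p A P _ * 1
      rw [relFrob_tmul, map_one, map_one, mul_one, mul_one], ← TensorProduct.smul_tmul]
    congr 1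
    exact (mul_one _).symm
  letI algP : Algebra P (BaseChange p A C ⊗[BaseChange p A P] P) := (φ₂.comp (frobenius P p)).toAlgebra
  let ρ₁ : C →ₐ[P] BaseChange p A C ⊗[BaseChange p A P] P := { φ₁ with commutes' := fun q => hφ q }
  let ρ₂ : Twist p P →ₐ[P] BaseChange p A C ⊗[BaseChange p A P] P :=
    { φ₂.comp ((toTwist p P).symm : Twist p P →+* P) with commutes' := fun _ => rfl }
  let ρ : BaseChange p P C →+* BaseChange p A C ⊗[BaseChange p A P] P :=
    (Algebra.TensorProduct.lift ρ₁ ρ₂ fun _ _ => Commute.all _ _).toRingHom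
  have hρ : ∀ c q, ρ (c ⊗ₜ q) = φ₁ c * φ₂ ((toTwist p P).symm q) := fun c q => Algebra.TensorProduct.lift_tmul ρ₁ ρ₂ _ c q
  have hcompat : ∀ t, Φ (ρ t) = relFrob p P C t := fun t => by
    induction t using TensorProduct.induction_on with
    | zero => simp
    | tmul c q =>
      rw [hρ, map_mul, relFrob_tmul]
      show Φ ((c ⊗ₜ (1 : Twist p A)) ⊗ₜ (1 : P)) * Φ ((1 : BaseChange p A C) ⊗ₜ _) = _
      rw [hΦ, hΦ, relFrob_tmul, map_one, map_one, map_one, mul_one, mul_one, map_one, one_mul]
    | add x y hx hy => simp only [map_add, hx, hy]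
  have hsurj : Function.Surjective ρ := by
    intro t
    induction t using TensorProduct.induction_on with
    | zero => exact ⟨0, map_zero _⟩
    | tmul x f =>
      suffices ∀ x : BaseChange p A C, ∃ s, ρ s = x ⊗ₜ (1 : P) by
        obtain ⟨s, hs⟩ := this x
        refine ⟨s * ((1 : C) ⊗ₜ toTwist p P f), ?_⟩
        rw [map_mul, hs, hρ, map_one, one_mul, RingEquiv.symm_apply_apply]
        show (x ⊗ₜ (1 : P)) * ((1 : BaseChange p A C) ⊗ₜ f) = _
        rw [Algebra.TensorProduct.tmul_mul_tmul, mul_one, one_mul]
      intro x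
      induction x using TensorProduct.induction_on with
      | zero => exact ⟨0, by rw [map_zero, TensorProduct.zero_tmul]⟩
      | tmul c a =>
        refine ⟨c ⊗ₜ toTwist p P (algebraMap A P ((toTwist p A).symm a)), ?_⟩
        rw [hρ, RingEquiv.symm_apply_apply]
        show ((c ⊗ₜ (1 : Twist p A)) ⊗ₜ (1 : P)) * ((1 : BaseChange p A C) ⊗ₜ algebraMap A P _) = _
        rw [Algebra.TensorProduct.tmul_mul_tmul, mul_one, one_mul,
          show (algebraMap A P ((toTwist p A).symm a) : P) = ((1 : P) ⊗ₜ a : BaseChange p A P) • (1 : P) from by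
            show _ = relFrob p A P _ * 1
            rw [relFrob_tmul, one_pow, one_mul, mul_one]
            , ← TensorProduct.smul_tmul]
        congr 1
        show ψ _ * _ = _
        rw [hψ, map_one, Algebra.TensorProduct.tmul_mul_tmul, one_mul, mul_one]
      | add x y hx hy =>
        obtain ⟨a, ha⟩ := hx
        obtain ⟨b, hb⟩ := hy
        exact ⟨a + b, by rw [map_add, ha, hb, TensorProduct.add_tmul]⟩
    | add x y hx hy =>
      obtain ⟨a, rfl⟩ := hx
      obtain ⟨b, rfl⟩ := hy
      exact ⟨a + b, map_add _ _ _⟩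
  have hE := bijective_of_etale (p := p) (A := P) (B := C)
  have hb : Function.Bijective Φ := by
    refine ⟨fun x y h => ?_, fun z => ?_⟩
    · obtain ⟨a, rfl⟩ := hsurj x
      obtain ⟨b, rfl⟩ := hsurj y
      rw [hcompat, hcompat] at h
      rw [hE.1 h]
    · obtain ⟨t, rfl⟩ := hE.2 z
      exact ⟨ρ t, hcompat t⟩
  let L : BaseChange p A C ⊗[BaseChange p A P] P ≃ₗ[BaseChange p A C] C :=
    LinearEquiv.ofBijective
      { toFun := Φ,
        map_add' := map_add Φ,
        map_smul' := fun r x => by
          show Φ (r • x) = relFrob p A C r * Φ x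
          induction x using TensorProduct.induction_on with
          | zero => simp
          | tmul y f => show Φ ((r * y) ⊗ₜ f) = _; rw [hΦ, hΦ, map_mul, mul_assoc]
          | add x y hx hy => rw [smul_add, map_add, map_add, hx, hy, mul_add] } hb
  haveI : Module.Flat (BaseChange p A P) P := hfl
  haveI : Module.Finite (BaseChange p A P) P := hfin
  rw [← Module.rankAtStalk_eq_of_equiv L, Module.rankAtStalk_baseChange]
  rfl

end Groth.Agent.FrobRank
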