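import Groth.Agent.FrobRank.Etale
import Mathlib.RingTheory.Smooth.StandardSmoothOfFree
import Mathlib.RingTheory.Etale.Kaehler
import Mathlib.RingTheory.Flat.EquationalCriterion

/-! The relative Frobenius of a smooth algebra is finite locally free of rank `p ^ r`. -/

set_option autoImplicit false
set_option backward.isDefEq.respectTransparency false
set_option linter.style.haveILetI false

universe u

open FrobAlg TensorProduct Groth.Agent.RelFrobEt

noncomputable section

namespace Groth.Agent.FrobRank

variable {p : ℕ} [Fact p.Prime] {A : Type u} [CommRing A] [CharP A p]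

lemma relFrob_finite (B : Type u) [CommRing B] [Algebra A B] [CharP B p] [Algebra.FiniteType A B] :
    (relFrob p A B).Finite := by
  let i : A →+* BaseChange p A B :=
    (Algebra.TensorProduct.includeRight : Twist p A →ₐ[A] BaseChange p A B).toRingHom.comp (toTwist p A).toRingHom
  have hcomp : (relFrob p A B).comp i = algebraMap A B := RingHom.ext fun a => by
    show relFrob p A B ((1 : B) ⊗ₜ toTwist p A a) = _
    rw [relFrob_tmul, one_pow, one_mul, RingEquiv.symm_apply_apply]
  refine RingHom.IsIntegral.to_finite (fun x => ?_) (RingHom.FiniteType.of_comp_finiteType (f := i) (hcomp ▸ ?_))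
  · letI := (relFrob p A B).toAlgebra
    show IsIntegral (BaseChange p A B) x
    refine IsIntegral.of_pow (Fact.out : p.Prime).pos ?_
    have : x ^ p = algebraMap (BaseChange p A B) B (x ⊗ₜ (1 : Twist p A)) := by
      show _ = relFrob p A B _
      rw [relFrob_tmul, map_one, map_one, mul_one]
    rw [this]
    exact isIntegral_algebraMap
  · exact RingHom.finiteType_algebraMap.mpr inferInstance

lemma comap_relFrob_surjective (B : Type u) [CommRing B] [Algebra A B] [CharP B p] [Algebra.FiniteType A B]
    (q : PrimeSpectrum (BaseChange p A B)) : ∃ Q : PrimeSpectrum B, Q.comap (relFrob p A B) = q := by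
  letI := (relFrob p A B).toAlgebra
  haveI : Module.Finite (BaseChange p A B) B := relFrob_finite B
  obtain ⟨Q, -, hQp, hQc⟩ := Ideal.exists_ideal_over_prime_of_isIntegral q.asIdeal (⊥ : Ideal B) (by
    intro z hz
    refine q.2.mem_of_pow_mem p ?_
    have hnil : z ^ p = (relFrob p A B z) ⊗ₜ (1 : Twist p A) := by
      let i : A →+* BaseChange p A B :=
        (Algebra.TensorProduct.includeRight : Twist p A →ₐ[A] BaseChange p A B).toRingHom.comp (toTwist p A).toRingHom
      have hp0 : (p : BaseChange p A B) = 0 := by rw [← map_natCast i p, CharP.cast_eq_zero, map_zero]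
      obtain ⟨F, hF⟩ := exists_powHom p (BaseChange p A B) hp0
      clear hz
      rw [← hF]
      induction z using TensorProduct.induction_on with
      | zero => simp
      | tmul b a =>
        rw [hF, Algebra.TensorProduct.tmul_pow, relFrob_tmul, mul_comm (b ^ p), ← Algebra.smul_def, TensorProduct.smul_tmul]
        congr 1
        rw [Algebra.smul_def, mul_one, algebraMap_twist, map_pow, RingEquiv.apply_symm_apply]
      | add x y hx hy => rw [map_add, map_add, TensorProduct.add_tmul, hx, hy]
    rw [hnil, show relFrob p A B z = 0 from hz, TensorProduct.zero_tmul]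
    exact zero_mem _)
  exact ⟨⟨Q, hQp⟩, PrimeSpectrum.ext hQc⟩

lemma rank_mvPolynomial (n : ℕ) [CharP (MvPolynomial (Fin n) A) p]
    (q : PrimeSpectrum (BaseChange p A (MvPolynomial (Fin n) A))) :
    @Module.rankAtStalk (BaseChange p A (MvPolynomial (Fin n) A)) (MvPolynomial (Fin n) A) _ _
      (relFrob p A (MvPolynomial (Fin n) A)).toAlgebra.toModule q = p ^ n := by
  let P := MvPolynomial (Fin n) A
  haveI : NeZero p := ⟨(Fact.out : p.Prime).ne_zero⟩
  obtain ⟨θ, hθ, heq⟩ := exists_relFrob_mvPolynomial_eq (p := p) (A := A) n
  letI := (relFrob p A P).toAlgebra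
  let v : (Fin n → Fin p) → P := fun s => MvPolynomial.monomial (Finsupp.equivFunOnFinite.symm fun i => (s i : ℕ)) 1
  let L : ((Fin n → Fin p) → BaseChange p A P) →ₗ[BaseChange p A P] P :=
    { toFun := fun c => ∑ s, relFrob p A P (c s) * v s,
      map_add' := fun a b => by simp [Finset.sum_add_distrib, add_mul],
      map_smul' := fun r a => by
        simp only [Pi.smul_apply, smul_eq_mul, map_mul, RingHom.id_apply, Algebra.smul_def, mul_assoc]
        rw [Finset.mul_sum]
        rfl }
  have hb : Function.Bijective L := by
    have h1 : Function.Bijective fun c : (Fin n → Fin p) → BaseChange p A P => fun s => θ (c s) :=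
      (Equiv.piCongrRight fun _ => Equiv.ofBijective θ hθ).bijective
    have h2 := (expand_basis n p A).comp h1
    convert h2 using 1
    funext c
    show ∑ s, relFrob p A P (c s) * v s = _
    simp only [Function.comp_apply]
    refine Finset.sum_congr rfl fun t _ => ?_
    rw [RingHom.congr_fun heq (c t)]
    rfl
  rw [← Module.rankAtStalk_eq_of_equiv (LinearEquiv.ofBijective L hb)]
  rw [Module.rankAtStalk_eq_finrank_of_free, Pi.natCast_apply]
  haveI : Nontrivial (BaseChange p A P) := ⟨⟨0, 1, fun h => q.2.ne_top ((Ideal.eq_top_iff_one _).2 (h ▸ zero_mem _))⟩⟩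
  rw [Module.finrank_pi]
  simp

theorem main (B : Type u) [CommRing B] [Algebra A B] [CharP B p] [Algebra.Smooth A B] (r : ℕ)
    (hr : ∀ q : PrimeSpectrum B, Module.rankAtStalk (R := B) (KaehlerDifferential A B) q = r) :
    letI := (relFrob p A B).toAlgebra
    Module.Finite (BaseChange p A B) B ∧ Module.Projective (BaseChange p A B) B ∧
      ∀ q : PrimeSpectrum (BaseChange p A B),
        Module.rankAtStalk (R := BaseChange p A B) B q = p ^ r := by
  letI := (relFrob p A B).toAlgebra
  haveI hfin : Module.Finite (BaseChange p A B) B := relFrob_finite B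
  haveI hflat : Module.Flat (BaseChange p A B) B := relFrob_flat B
  have hfp : Module.FinitePresentation (BaseChange p A B) B := by
    let i : A →+* BaseChange p A B :=
      (Algebra.TensorProduct.includeRight : Twist p A →ₐ[A] BaseChange p A B).toRingHom.comp (toTwist p A).toRingHom
    have hcomp : (relFrob p A B).comp i = algebraMap A B := RingHom.ext fun a => by
      show relFrob p A B ((1 : B) ⊗ₜ toTwist p A a) = _
      rw [relFrob_tmul, one_pow, one_mul, RingEquiv.symm_apply_apply]
    have hi : i.FiniteType := by
      have h1 : (algebraMap (Twist p A) (Twist p A ⊗[A] B)).FiniteType := RingHom.finiteType_algebraMap.2 inferInstance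
      have h3 := (RingHom.FiniteType.of_surjective (Algebra.TensorProduct.comm A (Twist p A) B).toRingEquiv.toRingHom
        (Algebra.TensorProduct.comm A (Twist p A) B).surjective).comp
          (h1.comp (RingHom.FiniteType.of_surjective (toTwist p A).toRingHom (toTwist p A).surjective))
      exact h3
    haveI : Algebra.FinitePresentation (BaseChange p A B) B :=
      RingHom.FinitePresentation.of_comp_finiteType i (hcomp ▸ RingHom.finitePresentation_algebraMap.2 inferInstance) hi
    exact Module.FinitePresentation.of_finite_of_finitePresentation (BaseChange p A B) B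
  refine ⟨hfin, Module.Flat.projective_of_finitePresentation, fun q => ?_⟩
  obtain ⟨Q, rfl⟩ := comap_relFrob_surjective B q
  obtain ⟨s, hs, hstd⟩ := Algebra.Smooth.exists_span_eq_top_isStandardSmooth A B
  obtain ⟨f, hf, hfQ⟩ : ∃ f ∈ s, f ∉ Q.asIdeal := by
    by_contra! h
    exact Q.2.ne_top (top_le_iff.1 (hs ▸ Ideal.span_le.2 h))
  let C := Localization.Away f
  have hdisj : Disjoint (Submonoid.powers f : Set B) Q.asIdeal := by
    rw [Set.disjoint_left]
    rintro x ⟨k, rfl⟩ hx
    exact hfQ (Q.2.mem_of_pow_mem k hx)
  let QC : PrimeSpectrum C := ⟨Q.asIdeal.map (algebraMap B C),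
    IsLocalization.isPrime_of_isPrime_disjoint (Submonoid.powers f) C Q.asIdeal Q.2 hdisj⟩
  have hQC : QC.comap (algebraMap B C) = Q :=
    PrimeSpectrum.ext (IsLocalization.comap_map_of_isPrime_disjoint (Submonoid.powers f) C Q.2 hdisj)
  haveI : Nontrivial C := ⟨⟨0, 1, fun h => QC.2.ne_top ((Ideal.eq_top_iff_one _).2 (h ▸ zero_mem _))⟩⟩
  have hpC : (p : C) = 0 := by rw [← map_natCast (algebraMap B C), CharP.cast_eq_zero, map_zero]
  haveI : CharP C p := (CharP.charP_iff_prime_eq_zero Fact.out).mpr hpC
  haveI : Algebra.Etale B C := Algebra.Etale.of_isLocalizationAway f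
  have hq : (QC.comap (relFrob p A C)).comap (bcMap p A B C) = Q.comap (relFrob p A B) := by
    rw [← hQC]
    have : (relFrob p A C).comp (bcMap p A B C) = (algebraMap B C).comp (relFrob p A B) := by
      refine RingHom.ext fun t => ?_
      induction t using TensorProduct.induction_on with
      | zero => simp
      | tmul b a =>
        show relFrob p A C (algebraMap B C b ⊗ₜ a) = algebraMap B C (relFrob p A B (b ⊗ₜ a))
        rw [relFrob_tmul, relFrob_tmul, map_mul, map_pow, ← IsScalarTower.algebraMap_apply]
      | add x y hx hy => simp only [map_add, hx, hy]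
    refine PrimeSpectrum.ext ?_
    show (QC.asIdeal.comap _).comap _ = (QC.asIdeal.comap _).comap _
    rw [Ideal.comap_comap, Ideal.comap_comap, this]
  rw [← hq, ← rankAtStalk_relFrob_etale B C hflat hfin]
  haveI : Algebra.IsStandardSmooth A C := hstd f hf
  obtain ⟨n, g, hg, hget⟩ := RingHom.IsStandardSmooth.exists_etale_mvPolynomial
    (RingHom.isStandardSmooth_algebraMap.2 (inferInstance : Algebra.IsStandardSmooth A C))
  letI := g.toAlgebra
  haveI : IsScalarTower A (MvPolynomial (Fin n) A) C :=
    IsScalarTower.of_algebraMap_eq fun a => (RingHom.congr_fun hg a).symm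
  haveI : Algebra.Etale (MvPolynomial (Fin n) A) C := hget
  haveI : CharP (MvPolynomial (Fin n) A) p := inferInstance
  rw [rankAtStalk_relFrob_etale (MvPolynomial (Fin n) A) C (relFrob_mvPolynomial_flat n) (relFrob_finite _),
    rank_mvPolynomial]
  congr 1
  -- the relative dimension
  haveI : Nontrivial A := (algebraMap A C).domain_nontrivial
  let b := (KaehlerDifferential.mvPolynomialBasis A (Fin n)).baseChange C
  have e1 : Module.rankAtStalk (R := C) (KaehlerDifferential A C) QC = n := by
    rw [← Module.rankAtStalk_eq_of_equiv (KaehlerDifferential.tensorKaehlerEquivOfFormallyEtale A (MvPolynomial (Fin n) A) C)]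
    haveI : Module.Free C (C ⊗[MvPolynomial (Fin n) A] KaehlerDifferential A (MvPolynomial (Fin n) A)) := .of_basis b
    rw [Module.rankAtStalk_eq_finrank_of_free, Pi.natCast_apply, Module.finrank_eq_card_basis b]
    simp
  rw [← e1, ← Module.rankAtStalk_eq_of_equiv (KaehlerDifferential.tensorKaehlerEquivOfFormallyEtale A B C),
    Module.rankAtStalk_baseChange]
  exact hr _

end Groth.Agent.FrobRank
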